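import Mathlib.RingTheory.Bialgebra.Convolution
import Mathlib.RingTheory.HopfAlgebra.Convolution
import Mathlib.LinearAlgebra.Basis.VectorSpace
import Mathlib.Algebra.CharP.Lemmas
import Mathlib.Algebra.CharP.Algebra
import Mathlib.LinearAlgebra.Dimension.Free
import Mathlib.Tactic.Ring

/-!
A finite commutative group killed by the `q`-th power Frobenius is killed by `q`.
-/

set_option autoImplicit false

universe u

open TensorProduct WithConv Coalgebra

noncomputable section

namespace Groth.Agent.AVFrobKer

variable {k : Type u} [Field k] {A : Type u} [CommRing A] [HopfAlgebra k A]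

/-- maps with scalar values -/
def s (φ : A →ₗ[k] k) : WithConv (A →ₗ[k] A) := toConv ((Algebra.linearMap k A).comp φ)

/-- multiples of the unit -/
def t (a : A) : WithConv (A →ₗ[k] A) := toConv ((Coalgebra.counit (R := k) (A := A)).smulRight a)

theorem s_mul_t_apply (φ : A →ₗ[k] k) (a x : A) : (s φ * t (k := k) a).ofConv x = φ x • a := by
  have h : ∀ z : A ⊗[k] A, LinearMap.mul' k A (TensorProduct.map (s φ).ofConv (t (k := k) a).ofConv z) =
      φ (TensorProduct.rid k A ((Coalgebra.counit (R := k)).lTensor A z)) • a := fun z => by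
    induction z using TensorProduct.induction_on with
    | zero => simp
    | tmul p q =>
      simp only [TensorProduct.map_tmul, LinearMap.mul'_apply, LinearMap.lTensor_tmul, TensorProduct.rid_tmul,
        map_smul, smul_eq_mul, s, t, LinearMap.comp_apply, Algebra.linearMap_apply, LinearMap.smulRight_apply]
      simp only [Algebra.smul_def, map_mul]
      ring
    | add p q hp hq => simp only [map_add, hp, hq, add_smul]
  show LinearMap.mul' k A (TensorProduct.map (s φ).ofConv (t (k := k) a).ofConv (Coalgebra.comul (R := k) x)) = _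
  rw [h, Coalgebra.lTensor_counit_comul]
  simp

theorem t_mul (a b : A) : t (k := k) a * t b = t (a * b) := by
  refine WithConv.ext (LinearMap.ext fun x => ?_)
  have h : ∀ z : A ⊗[k] A, LinearMap.mul' k A (TensorProduct.map (t (k := k) a).ofConv (t (k := k) b).ofConv z) =
      (Coalgebra.counit (R := k) (TensorProduct.rid k A ((Coalgebra.counit (R := k)).lTensor A z))) • (a * b) := fun z => by
    induction z using TensorProduct.induction_on with
    | zero => simp
    | tmul p q => simp [t, Algebra.smul_def, mul_comm, mul_left_comm, mul_assoc]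
    | add p q hp hq => simp only [map_add, hp, hq, add_smul]
  show LinearMap.mul' k A (TensorProduct.map (t (k := k) a).ofConv (t (k := k) b).ofConv (Coalgebra.comul (R := k) x)) = _
  rw [h, Coalgebra.lTensor_counit_comul]
  simp [t]

theorem t_one : t (k := k) (1 : A) = 1 := by
  refine WithConv.ext (LinearMap.ext fun x => ?_)
  simp [t, Algebra.algebraMap_eq_smul_one]

theorem t_pow (a : A) (n : ℕ) : t (k := k) a ^ n = t (a ^ n) := by
  induction n with
  | zero => rw [pow_zero, pow_zero, t_one]
  | succ n ih => rw [pow_succ, pow_succ, ih, t_mul]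

/-- the values are scalars -/
def Scalar (f : WithConv (A →ₗ[k] A)) : Prop := ∀ x, f.ofConv x ∈ LinearMap.range (Algebra.linearMap k A)

theorem scalar_mul {f g : WithConv (A →ₗ[k] A)} (hf : Scalar f) (hg : Scalar g) : Scalar (f * g) := fun x => by
  have h : ∀ z : A ⊗[k] A, LinearMap.mul' k A (TensorProduct.map f.ofConv g.ofConv z) ∈
      LinearMap.range (Algebra.linearMap k A) := fun z => by
    induction z using TensorProduct.induction_on with
    | zero => simp
    | tmul p q =>
      obtain ⟨c, hc⟩ := hf p
      obtain ⟨d, hd⟩ := hg q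
      exact ⟨c * d, by rw [TensorProduct.map_tmul, LinearMap.mul'_apply, ← hc, ← hd]; simp⟩
    | add p q hp hq => rw [map_add, map_add]; exact Submodule.add_mem _ hp hq
  exact h _

theorem scalar_one : Scalar (1 : WithConv (A →ₗ[k] A)) := fun x =>
  ⟨Coalgebra.counit (R := k) x, by simp⟩

theorem scalar_pow {f : WithConv (A →ₗ[k] A)} (hf : Scalar f) (n : ℕ) : Scalar (f ^ n) := by
  induction n with
  | zero => rw [pow_zero]; exact scalar_one
  | succ n ih => rw [pow_succ]; exact scalar_mul ih hf

theorem scalar_sum {J : Type*} (S : Finset J) {f : J → WithConv (A →ₗ[k] A)} (hf : ∀ j, Scalar (f j)) :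
    Scalar (∑ j ∈ S, f j) := fun x => by
  classical
  induction S using Finset.induction_on with
  | empty => simp
  | insert j S hj ih =>
    rw [Finset.sum_insert hj]
    exact Submodule.add_mem _ (hf j x) ih

variable [Module.Finite k A] [Coalgebra.IsCocomm k A]

/-- a finite commutative group killed by the `q`-th power Frobenius is killed by `q` -/
theorem id_pow_eq_one (p : ℕ) [Fact p.Prime] [CharP k p] (m : ℕ)
    (h : ∀ a : A, a ^ p ^ m = algebraMap k A (Coalgebra.counit (R := k) a)) :
    toConv (AlgHom.id k A) ^ p ^ m = 1 := by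
  classical
  haveI : Nontrivial A := ⟨⟨0, 1, fun h01 => by
    simpa using congrArg (Coalgebra.counit (R := k) (A := A)) h01⟩⟩
  haveI : CharP (WithConv (A →ₗ[k] A)) p := by
    refine charP_of_injective_algebraMap (R := k) (fun c d hcd => ?_) p
    have := congrArg (fun f : WithConv (A →ₗ[k] A) => Coalgebra.counit (R := k) (f.ofConv 1)) hcd
    simpa [LinearMap.convAlgebraMap_apply] using this
  obtain ⟨n, ⟨b⟩⟩ : ∃ n, Nonempty (Module.Basis (Fin n) k A) := ⟨_, ⟨Module.finBasis k A⟩⟩
  have hid : (toConv LinearMap.id : WithConv (A →ₗ[k] A)) = ∑ i, s (b.coord i) * t (b i) := by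
    refine WithConv.ext (LinearMap.ext fun x => ?_)
    rw [WithConv.ofConv_sum, LinearMap.sum_apply]
    simp only [s_mul_t_apply, Module.Basis.coord_apply]
    exact (b.sum_repr x).symm
  have hsc : Scalar ((toConv LinearMap.id : WithConv (A →ₗ[k] A)) ^ p ^ m) := by
    rw [hid, sum_pow_char_pow]
    refine scalar_sum _ fun i => ?_
    rw [mul_pow, t_pow, h]
    refine scalar_mul (scalar_pow (fun x => ⟨b.coord i x, rfl⟩) _) fun x => ?_
    exact ⟨Coalgebra.counit (R := k) x * Coalgebra.counit (R := k) (b i), by simp [t, Algebra.smul_def]⟩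
  refine WithConv.ext (AlgHom.ext fun a => ?_)
  have hlin : (toConv (AlgHom.id k A) ^ p ^ m).ofConv a =
      ((toConv LinearMap.id : WithConv (A →ₗ[k] A)) ^ p ^ m).ofConv a := by
    have := congrArg (fun f : WithConv (A →ₗ[k] A) => f.ofConv a)
      (AlgHom.toLinearMap_convPow (toConv (AlgHom.id k A)) (p ^ m))
    exact this
  have hcu : ∀ j : ℕ, (Bialgebra.counitAlgHom k A).comp (toConv (AlgHom.id k A) ^ j).ofConv =
      Bialgebra.counitAlgHom k A := fun j => by
    induction j with
    | zero => exact AlgHom.ext fun a => by simp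
    | succ j ih =>
      rw [pow_succ, AlgHom.comp_convMul_distrib, ih]
      exact AlgHom.ext fun a => by
        simp only [AlgHom.convMul_apply, toConv_ofConv]
        have key : ∀ z : A ⊗[k] A, Algebra.TensorProduct.lift (Bialgebra.counitAlgHom k A)
            ((Bialgebra.counitAlgHom k A).comp (AlgHom.id k A)) (fun _ _ => .all _ _) z =
            Coalgebra.counit (R := k) (TensorProduct.rid k A ((Coalgebra.counit (R := k)).lTensor A z)) := fun z => by
          induction z using TensorProduct.induction_on with
          | zero => simp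
          | tmul x y => simp [mul_comm]
          | add p q hp hq => simp only [map_add, hp, hq]
        rw [key, Coalgebra.lTensor_counit_comul]
        simp
  obtain ⟨c, hc⟩ := hsc a
  rw [← hlin] at hc
  have := AlgHom.congr_fun (hcu (p ^ m)) a
  simp only [AlgHom.comp_apply, ← hc] at this
  rw [← hc]
  simp only [Bialgebra.counitAlgHom_apply, Algebra.linearMap_apply, Bialgebra.counit_algebraMap] at this
  simp [this]

end Groth.Agent.AVFrobKer

end
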