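import Groth.Agent.AVFrobKer.Algebra
import Groth.Agent.AVCogen.Frob
import Groth.Agent.AVRosati.Factor
import Groth.Agent.GrpSchLib.AffineHopf
import Groth.Agent.IsogLib.Kernel
import Mathlib.FieldTheory.Finite.Basic

/-!
The kernel of the Frobenius is killed by the cardinality of the field.
-/

noncomputable section

set_option autoImplicit false
set_option linter.style.haveILetI false
set_option linter.unusedSectionVars false
set_option backward.isDefEq.respectTransparency false
set_option backward.isDefEq.respectTransparency.types false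
set_option synthInstance.maxHeartbeats 400000
set_option maxHeartbeats 1000000

universe u

open CategoryTheory CategoryTheory.Limits AlgebraicGeometry MonoidalCategory CartesianMonoidalCategory
open scoped MonObj
open TensorProduct WithConv

attribute [-instance] CategoryTheory.catToReflQuiver

namespace Groth.Agent.AVFrobKer

open GrpSchLib.AffineHopf

variable {k : Type u} [Field k]

/-- the Hopf algebra of a commutative affine group is cocommutative -/
theorem isCocomm {A : Type u} [CommRing A] [HopfAlgebra k A] {G : Over (Spec (CommRingCat.of k))} [GrpObj G]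
    [IsCommMonObj G] (e : sp k A ⟶ G) [IsMonHom e] [Mono e] : Coalgebra.IsCocomm k A := by
  let l : A →ₐ[k] A ⊗[k] A := Algebra.TensorProduct.includeLeft
  let r : A →ₐ[k] A ⊗[k] A := Algebra.TensorProduct.includeRight
  have h : (toConv l * toConv r).ofConv = (toConv r * toConv l).ofConv := by
    apply spMap_injective
    rw [← spMap_mul, ← spMap_mul, ← cancel_mono e, MonObj.mul_comp, MonObj.mul_comp, mul_comm]
  constructor
  refine LinearMap.ext fun a => ?_
  have h' := AlgHom.congr_fun h a
  simp only [AlgHom.convMul_apply] at h'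
  have key : ∀ z : A ⊗[k] A, Algebra.TensorProduct.lift l r (fun _ _ => Commute.all _ _) z = z := fun z => by
    induction z using TensorProduct.induction_on with
    | zero => simp
    | tmul p q => simp [l, r]
    | add p q hp hq => simp only [map_add, hp, hq]
  have key' : ∀ z : A ⊗[k] A, Algebra.TensorProduct.lift r l (fun _ _ => Commute.all _ _) z = TensorProduct.comm k A A z := fun z => by
    induction z using TensorProduct.induction_on with
    | zero => simp
    | tmul p q => simp [l, r]
    | add p q hp hq => simp only [map_add, hp, hq]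
  show TensorProduct.comm k A A (Coalgebra.comul (R := k) a) = Coalgebra.comul (R := k) a
  refine (key' _).symm.trans (Eq.trans ?_ (key _))
  convert h'.symm using 1

variable [Finite k]

/-- points killed by the Frobenius are killed by the cardinality of the field -/
theorem pow_card_eq_one {X : Over (Spec (CommRingCat.of k))} [GrpObj X] [IsCommMonObj X] [IsProper X.hom]
    [GeometricallyIntegral X.hom]
    (π : X ⟶ X) [IsMonHom π] (hπ : WeilLib.IsPowMap π.left (Nat.card k))
    {T : Over (Spec (CommRingCat.of k))} (g : T ⟶ X) (hg : g ≫ π = 1) : g ^ Nat.card k = 1 := by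
  obtain ⟨K, hKG, i, hi, hic, hK⟩ := AVRosati.QuasiSection.exists_kernel π
  haveI := hi
  haveI := hic
  haveI : Mono i := (Over.forget _).mono_of_mono_map (inferInstanceAs (Mono i.left))
  haveI : IsCommMonObj K := by
    constructor
    rw [← cancel_mono i, Category.assoc]
    simp only [IsMonHom.mul_hom]
    rw [← BraidedCategory.braiding_naturality_assoc, IsCommMonObj.mul_comm]
  obtain ⟨l, hl⟩ := IsogLib.exists_kernel_lift π hK g hg
  suffices h : (𝟙 K : K ⟶ K) ^ Nat.card k = 1 by
    rw [← hl, show (l ≫ i) ^ Nat.card k = l ≫ (𝟙 K ^ Nat.card k) ≫ i by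
      rw [MonObj.pow_comp, MonObj.comp_pow, Category.id_comp], h, MonObj.one_comp, MonObj.comp_one]
  have hKi : i ≫ π = 1 := IsogLib.kernel_comp π hK
  -- the kernel is a point
  haveI : Subsingleton ↥K.left := by
    refine ⟨fun x y => (Scheme.Hom.isClosedEmbedding i.left).injective ?_⟩
    have h : ∀ z : ↥K.left, i.left z = η[X].left (toUnit K |>.left z) := fun z => by
      have h' := congrArg (fun f : K ⟶ X => f.left z) (hKi.trans (MonObj.one_eq_one (M := X) ▸ rfl :
        (1 : K ⟶ X) = toUnit K ≫ η[X]))
      simp only [Over.comp_left, Scheme.Hom.comp_apply] at h'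
      rwa [hπ.base] at h'
    haveI : Subsingleton ↥(𝟙_ (Over (Spec (CommRingCat.of k)))).left :=
      inferInstanceAs (Subsingleton (PrimeSpectrum k))
    rw [h, h, Subsingleton.elim ((toUnit K).left x) ((toUnit K).left y)]
  haveI : IsAffine K.left := inferInstance
  haveI : IsProper K.hom := by rw [← Over.w i]; infer_instance
  haveI : IsAffineHom K.hom := inferInstance
  haveI : IsFinite K.hom := IsFinite.iff_isProper_and_isAffineHom.mpr ⟨inferInstance, inferInstance⟩
  obtain ⟨A, _, _, ⟨e⟩⟩ := exists_hopf (R := k) K
  let e' : sp k A ≅ K := (Grp.forget _).mapIso e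
  haveI : IsMonHom e'.hom := e.hom.hom.isMonHom_hom
  haveI : Coalgebra.IsCocomm k A := isCocomm e'.hom
  haveI : IsFinite (sp k A).hom := by rw [← Over.w e'.hom]; infer_instance
  haveI : Module.Finite k A := by
    rw [← RingHom.finite_algebraMap]
    exact (IsFinite.SpecMap_iff (f := CommRingCat.ofHom (algebraMap k A))).mp ‹IsFinite (sp k A).hom›
  -- the Frobenius of the kernel is trivial
  cases nonempty_fintype k
  let φ := FiniteField.frobeniusAlgHom k A
  obtain ⟨F, hF, -, -, hnat⟩ := AVRosati.exists_frob (k := k)
  have hπF : π = F X 1 :=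
    Over.OverMorphism.ext (AVRosati.isPowMap_unique hπ (pow_one (Nat.card k) ▸ hF X 1))
  haveI : IsAffine (sp k A).left := inferInstanceAs (IsAffine (Spec (CommRingCat.of A)))
  have hφ : spMap φ = F (sp k A) 1 := by
    refine Over.OverMorphism.ext (ext_of_isAffine (CommRingCat.hom_ext (RingHom.ext fun s => ?_)))
    have h := (hF (sp k A) 1).app ⊤ le_top s
    rw [pow_one] at h
    rw [show (F (sp k A) 1).left.appTop = (F (sp k A) 1).left.appLE ⊤ ⊤ le_top from Scheme.Hom.app_eq_appLE _]
    refine Eq.trans ?_ h.symm
    obtain ⟨a, rfl⟩ := (Scheme.ΓSpecIso (CommRingCat.of A)).commRingCatIsoToRingEquiv.symm.surjective s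
    show (Spec.map (CommRingCat.ofHom φ.toRingHom)).appTop.hom ((Scheme.ΓSpecIso (CommRingCat.of A)).inv.hom a) =
      ((Scheme.ΓSpecIso (CommRingCat.of A)).inv.hom a) ^ Nat.card k
    rw [← CommRingCat.comp_apply, ← Scheme.ΓSpecIso_inv_naturality, CommRingCat.comp_apply, ← map_pow]
    congr 1
    show φ a = a ^ Nat.card k
    rw [Nat.card_eq_fintype_card]
    rfl
  have hφ1 : spMap φ = (1 : sp k A ⟶ sp k A) := by
    rw [hφ, ← cancel_mono (e'.hom ≫ i), MonObj.one_comp, hnat, Category.assoc, ← hπF, hKi, MonObj.comp_one]
  have hφ2 : ∀ a : A, a ^ Nat.card k = algebraMap k A (Coalgebra.counit (R := k) a) := fun a => by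
    have h : spMap φ = spMap (1 : WithConv (A →ₐ[k] A)).ofConv :=
      hφ1.trans (map_one Spec.mapMulEquiv).symm
    have h' := AlgHom.congr_fun (spMap_injective h) a
    rw [Nat.card_eq_fintype_card]
    refine Eq.trans (show a ^ Fintype.card k = φ a from rfl) (h'.trans ?_)
    simp
  obtain ⟨p, hp⟩ := CharP.exists k
  obtain ⟨n, hpp, hn⟩ := FiniteField.card k p
  haveI : Fact p.Prime := ⟨hpp⟩
  have hid : toConv (AlgHom.id k A) ^ Nat.card k = 1 := by
    have hq : Nat.card k = p ^ (n : ℕ) := by rw [Nat.card_eq_fintype_card, hn]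
    rw [hq] at hφ2 ⊢
    exact id_pow_eq_one p n hφ2
  have hsp : (𝟙 (sp k A) : sp k A ⟶ sp k A) ^ Nat.card k = 1 := by
    rw [← spMap_id, spMap_eq_mapMulEquiv, ← map_pow, hid, map_one]
  rw [← cancel_epi e'.hom, MonObj.comp_pow, Category.comp_id, MonObj.comp_one]
  have h := congrArg (· ≫ e'.hom) hsp
  rwa [MonObj.pow_comp, Category.id_comp, MonObj.one_comp] at h

end Groth.Agent.AVFrobKer

end
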